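import Groth.Agent.DerivedCoh.KInjTower.Prod
import Mathlib.Algebra.Homology.HomotopyCategory.DegreewiseSplit
import Mathlib.Algebra.Homology.Factorizations.CM5a
import Mathlib.Algebra.Homology.HomologySequenceLemmas
import Mathlib.Algebra.Homology.Embedding.CochainComplex

/-! K-injective resolutions when countable products are exact. -/

set_option autoImplicit false
set_option backward.isDefEq.respectTransparency false

universe v u

open CategoryTheory CategoryTheory.Limits HomologicalComplex CochainComplex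

namespace Groth.DerivedCoh.KInjTower

variable {A : Type u} [Category.{v} A] [Abelian A]

section Trunc

variable (K : CochainComplex A ℤ)

lemma isIso_πTruncGE_f (n q : ℤ) (h : n < q) : IsIso ((K.πTruncGE n).f q) := by
  obtain ⟨i, rfl⟩ : ∃ i : ℕ, n + i = q := ⟨(q - n).toNat, by lia⟩
  have hi : ¬ (ComplexShape.embeddingUpIntGE n).BoundaryGE i := fun hb => by
    rw [ComplexShape.boundaryGE_embeddingUpIntGE_iff] at hb
    lia
  have e : (ComplexShape.embeddingUpIntGE n).f i = n + i := by simp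
  have := HomologicalComplex.isIso_restrictionToTruncGE' K (ComplexShape.embeddingUpIntGE n) i (by simpa using hi)
  change IsIso ((HomologicalComplex.πTruncGE K (ComplexShape.embeddingUpIntGE n)).f (n + i))
  dsimp [HomologicalComplex.πTruncGE]
  rw [(ComplexShape.embeddingUpIntGE n).isIso_liftExtend_f_iff _ _ e]
  infer_instance

/-- The map between consecutive truncations. -/
noncomputable def truncStep (n : ℕ) : K.truncGE (-((n + 1 : ℕ) : ℤ)) ⟶ K.truncGE (-(n : ℤ)) :=
  have : (K.truncGE (-(n : ℤ))).IsStrictlyGE (-((n + 1 : ℕ) : ℤ)) :=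
    (K.truncGE (-(n : ℤ))).isStrictlyGE_of_ge _ (-(n : ℤ)) (by lia)
  have := ((K.truncGE (-(n : ℤ))).isIso_πTruncGE_iff (-((n + 1 : ℕ) : ℤ))).2 this
  CochainComplex.truncGEMap (K.πTruncGE (-(n : ℤ))) _ ≫
    inv ((K.truncGE (-(n : ℤ))).πTruncGE (-((n + 1 : ℕ) : ℤ)))

lemma π_truncStep (n : ℕ) :
    K.πTruncGE (-((n + 1 : ℕ) : ℤ)) ≫ truncStep K n = K.πTruncGE (-(n : ℤ)) := by
  simp [truncStep]

end Trunc

/-- A map of left exact sequences whose middle and right maps are isomorphisms is an isomorphism. -/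
lemma isIso_of_kernels {X B P Q C D : A} {ι : X ⟶ P} {g : P ⟶ Q} {w : ι ≫ g = 0}
    (hS : (ShortComplex.mk ι g w).Exact) [Mono ι] (φ : P ⟶ C) [IsIso φ] (ψ : Q ⟶ D) [IsIso ψ]
    {κ : B ⟶ C} [Mono κ] {g' : C ⟶ D} (f : X ⟶ B) (hf : f ≫ κ = ι ≫ φ) (he : g ≫ ψ = φ ≫ g')
    (hκ : κ ≫ g' = 0) : IsIso f := by
  haveI : Mono (ShortComplex.mk ι g w).f := ‹Mono ι›
  obtain ⟨r, hr⟩ := ShortComplex.Exact.lift' hS (κ ≫ inv φ) (by
    change (κ ≫ inv φ) ≫ g = 0
    rw [← cancel_mono ψ, Category.assoc, he, Category.assoc, IsIso.inv_hom_id_assoc, hκ, zero_comp])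
  change r ≫ ι = _ at hr
  refine ⟨r, ?_, ?_⟩
  · rw [← cancel_mono ι, Category.assoc, hr, ← Category.assoc, hf, Category.assoc,
      IsIso.hom_inv_id, Category.comp_id, Category.id_comp]
  · rw [← cancel_mono κ, Category.assoc, hf, ← Category.assoc, hr, Category.assoc,
      IsIso.inv_hom_id, Category.comp_id, Category.id_comp]

variable [HasLimitsOfShape (Discrete ℕ) A] {F G : ℕ → CochainComplex A ℤ}

/-- The identity minus shift on the product of a tower. -/
noncomputable def sh (p : ∀ n, F (n + 1) ⟶ F n) : prodCx F ⟶ prodCx F :=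
  lift fun n => proj F n - proj F (n + 1) ≫ p n

@[reassoc]
lemma sh_proj (p : ∀ n, F (n + 1) ⟶ F n) (n : ℕ) :
    sh p ≫ proj F n = proj F n - proj F (n + 1) ≫ p n :=
  lift_proj _ _

lemma exists_solution (i : ℤ) {T : A} (N : ℕ) :
    ∀ (F : ℕ → CochainComplex A ℤ) (p : ∀ n, F (n + 1) ⟶ F n),
      (∀ n, N ≤ n → ∃ σ, σ ≫ (p n).f i = 𝟙 _) → ∀ b : ∀ n, T ⟶ (F n).X i,
        ∃ a : ∀ n, T ⟶ (F n).X i, ∀ n, a n - a (n + 1) ≫ (p n).f i = b n := by
  induction N with
  | zero =>
    intro F p h b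
    choose σ hσ using fun n => h n (Nat.zero_le n)
    let a : ∀ n, T ⟶ (F n).X i := fun n => Nat.rec 0 (fun m x => (x - b m) ≫ σ m) n
    refine ⟨a, fun n => ?_⟩
    change a n - ((a n - b n) ≫ σ n) ≫ (p n).f i = b n
    rw [Category.assoc, hσ, Category.comp_id, sub_sub_cancel]
  | succ N ih =>
    intro F p h b
    obtain ⟨a, ha⟩ := ih (fun n => F (n + 1)) (fun n => p (n + 1)) (fun n hn => h (n + 1) (by lia))
      (fun n => b (n + 1))
    refine ⟨fun n => match n with | 0 => b 0 + a 0 ≫ (p 0).f i | m + 1 => a m, fun n => ?_⟩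
    cases n with
    | zero => exact add_sub_cancel_right _ _
    | succ m => exact ha m

lemma exists_section (p : ∀ n, F (n + 1) ⟶ F n) (i : ℤ)
    (h : ∃ N : ℕ, ∀ n, N ≤ n → ∃ σ, σ ≫ (p n).f i = 𝟙 _) :
    ∃ s : (prodCx F).X i ⟶ (prodCx F).X i, s ≫ (sh p).f i = 𝟙 _ := by
  obtain ⟨N, hN⟩ := h
  obtain ⟨a, ha⟩ := exists_solution i N F p hN fun n => (proj F n).f i
  refine ⟨pi a, hom_ext fun n => ?_⟩
  rw [Category.assoc, ← comp_f, sh_proj, sub_f_apply, comp_f, Preadditive.comp_sub, pi_proj,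
    pi_proj_assoc, ha, Category.id_comp]

/-- The truncations of `K` and their product. -/
lemma truncSeq_shortExact (K : CochainComplex A ℤ) :
    ∃ h : lift (fun n : ℕ => K.πTruncGE (-(n : ℤ))) ≫ sh (truncStep K) = 0,
      (ShortComplex.mk _ _ h).ShortExact := by
  let F : ℕ → CochainComplex A ℤ := fun n => K.truncGE (-(n : ℤ))
  refine ⟨cx_ext fun n => ?_, HomologicalComplex.shortExact_of_degreewise_shortExact _ fun i => ?_⟩
  · rw [Category.assoc, sh_proj, Preadditive.comp_sub, lift_proj, lift_proj_assoc, π_truncStep,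
      sub_self, zero_comp]
  let N := (-i).toNat + 1
  have hπ : ∀ n, N ≤ n → IsIso ((K.πTruncGE (-(n : ℤ))).f i) := fun n hn =>
    isIso_πTruncGE_f K _ i (by lia)
  have hp : ∀ n, N ≤ n → IsIso ((truncStep K n).f i) := fun n hn => by
    have := hπ n hn
    have := hπ (n + 1) (by lia)
    have e := congrArg (fun φ => φ.f i) (π_truncStep K n)
    simp only [comp_f] at e
    exact IsIso.of_isIso_fac_left e
  obtain ⟨s, hs⟩ := exists_section (F := F) (truncStep K) i
    ⟨N, fun n hn => by have := hp n hn; exact ⟨inv ((truncStep K n).f i), IsIso.inv_hom_id _⟩⟩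
  have hιN : (lift fun n : ℕ => K.πTruncGE (-(n : ℤ))).f i ≫ (proj F N).f i =
      (K.πTruncGE (-(N : ℤ))).f i := by rw [← comp_f, lift_proj]
  haveI := hπ N le_rfl
  refine { exact := ?_, mono_f := mono_of_mono_fac hιN, epi_g := (IsSplitEpi.mk' ⟨s, hs⟩).epi }
  rw [ShortComplex.exact_iff_exact_up_to_refinements]
  intro T (x : T ⟶ (prodCx F).X i) (hx : x ≫ (sh (truncStep K)).f i = 0)
  change ∃ (T' : A) (π : T' ⟶ T) (_ : Epi π) (x₁ : T' ⟶ K.X i),
    π ≫ x = x₁ ≫ (lift fun n : ℕ => K.πTruncGE (-(n : ℤ))).f i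
  have hrec : ∀ n, x ≫ (proj F n).f i = (x ≫ (proj F (n + 1)).f i) ≫ (truncStep K n).f i := fun n => by
    have := hx =≫ (proj F n).f i
    rw [Category.assoc, ← comp_f, sh_proj, sub_f_apply, comp_f, Preadditive.comp_sub, zero_comp,
      sub_eq_zero, ← Category.assoc] at this
    exact this
  let w : T ⟶ K.X i := (x ≫ (proj F N).f i) ≫ inv ((K.πTruncGE (-(N : ℤ))).f i)
  refine ⟨T, 𝟙 T, inferInstance, w, ?_⟩
  rw [Category.id_comp]
  refine hom_ext fun n => ?_
  rw [Category.assoc, ← comp_f, lift_proj]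
  have hπs : ∀ m : ℕ, (K.πTruncGE (-((m + 1 : ℕ) : ℤ))).f i ≫ (truncStep K m).f i =
      (K.πTruncGE (-(m : ℤ))).f i := fun m => by rw [← comp_f, π_truncStep]
  rcases le_total n N with hn | hn
  · induction hn using Nat.decreasingInduction with
    | of_succ m _ ih => rw [hrec m, ih, Category.assoc, hπs]
    | self => simp [w]
  · induction n, hn using Nat.le_induction with
    | base => simp [w]
    | succ m hm ih =>
      have := hp m hm
      rw [← cancel_mono ((truncStep K m).f i), ← hrec m, Category.assoc, hπs, ih]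

variable [HasExactLimitsOfShape (Discrete ℕ) A] [EnoughInjectives A]

/-- Every complex has a quasi-isomorphism to a K-injective one. -/
theorem exists_kInjective (K : CochainComplex A ℤ) :
    ∃ (I : CochainComplex A ℤ) (f : K ⟶ I), I.IsKInjective ∧ QuasiIso f := by
  let Stage := fun n : ℕ => {q : Σ I : CochainComplex A ℤ, (K.truncGE (-(n : ℤ)) ⟶ I) //
    QuasiIso q.2 ∧ q.1.IsStrictlyGE (-(n : ℤ) - 1) ∧ ∀ i, Injective (q.1.X i)}
  obtain ⟨I₀, u₀, -, hu₀, hI₀, hI₀'⟩ := CochainComplex.Plus.modelCategoryQuillen.exists_mono_quasiIso_injective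
    (K.truncGE (-((0 : ℕ) : ℤ))) (-((0 : ℕ) : ℤ) - 1) (-((0 : ℕ) : ℤ))
  have hstep : ∀ (n : ℕ) (q : Stage n), ∃ (q' : Stage (n + 1)) (p : q'.1.1 ⟶ q.1.1),
      q'.1.2 ≫ p = truncStep K n ≫ q.1.2 ∧ ∀ i, ∃ σ, σ ≫ p.f i = 𝟙 _ := by
    rintro n ⟨⟨I, u⟩, -, hGE, hI⟩
    haveI : I.IsStrictlyGE (-(n : ℤ) - 1) := hGE
    haveI : I.IsStrictlyGE (-((n + 1 : ℕ) : ℤ) - 1) := I.isStrictlyGE_of_ge _ (-(n : ℤ) - 1) (by lia)
    haveI : (K.truncGE (-((n + 1 : ℕ) : ℤ))).IsStrictlyGE ((-((n + 1 : ℕ) : ℤ) - 1) + 1) := by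
      rw [sub_add_cancel]; infer_instance
    obtain ⟨I', hI', ι, π, -, hq, hπ, hfac⟩ := CochainComplex.Plus.modelCategoryQuillen.cm5a
      (truncStep K n ≫ u) (-((n + 1 : ℕ) : ℤ) - 1)
    have hsplit : ∀ i, ∃ (J : A) (_ : Injective J) (f : J ⟶ I'.X i) (w : f ≫ π.f i = 0),
        Nonempty (ShortComplex.mk f (π.f i) w).Splitting := fun i => (Abelian.epiWithInjectiveKernel_iff _).1 (hπ i)
    refine ⟨⟨⟨I', ι⟩, hq, hI', fun i => ?_⟩, π, hfac, fun i => ?_⟩
    · obtain ⟨J, hJ, f, w, ⟨σ⟩⟩ := hsplit i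
      haveI := hI i
      exact Injective.of_iso σ.isoBinaryBiproduct.symm inferInstance
    · obtain ⟨J, hJ, f, w, ⟨σ⟩⟩ := hsplit i
      exact ⟨σ.s, σ.s_g⟩
  choose next p hp hsec using hstep
  let St : ∀ n, Stage n := fun n => Nat.rec ⟨⟨I₀, u₀⟩, hu₀, hI₀', hI₀⟩ next n
  let I := fun n => (St n).1.1
  let u : ∀ n : ℕ, K.truncGE (-(n : ℤ)) ⟶ I n := fun n => (St n).1.2
  let q : ∀ n, I (n + 1) ⟶ I n := fun n => p n (St n)
  have hq : ∀ n, u (n + 1) ≫ q n = truncStep K n ≫ u n := fun n => hp n (St n)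
  let Φ := map u
  haveI : QuasiIso Φ := quasiIso_map u fun n => (St n).2.1
  have hΦ : sh (truncStep K) ≫ Φ = Φ ≫ sh q := cx_ext fun n => by
    simp only [Φ, Category.assoc, map_proj, sh_proj, sh_proj_assoc, Preadditive.comp_sub,
      Preadditive.sub_comp, map_proj_assoc, hq]
  choose s hs using fun i => exists_section q i ⟨0, fun n _ => hsec n (St n) i⟩
  let S₂ := ShortComplex.mk (kernel.ι (sh q)) (sh q) (kernel.condition _)
  have hex : ∀ i, (S₂.map (HomologicalComplex.eval A (ComplexShape.up ℤ) i)).Exact := fun i =>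
    ShortComplex.exact_of_f_is_kernel _
      (KernelFork.mapIsLimit _ (kernelIsKernel (sh q)) (HomologicalComplex.eval A (ComplexShape.up ℤ) i))
  let σ : ∀ i, (S₂.map (HomologicalComplex.eval A (ComplexShape.up ℤ) i)).Splitting := fun i =>
    ShortComplex.Splitting.ofExactOfSection _ (hex i) (s i) (hs i)
      (inferInstanceAs (Mono ((HomologicalComplex.eval A (ComplexShape.up ℤ) i).map (kernel.ι (sh q)))))
  have hS₂ : S₂.ShortExact :=
    HomologicalComplex.shortExact_of_degreewise_shortExact _ fun i => (σ i).shortExact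
  obtain ⟨h0, hS₁⟩ := truncSeq_shortExact K
  let ι₁ := lift (fun n : ℕ => K.πTruncGE (-(n : ℤ)))
  let f : K ⟶ kernel (sh q) := kernel.lift _ (ι₁ ≫ Φ) (by
    rw [Category.assoc, ← hΦ, ← Category.assoc]; exact (congrArg (· ≫ Φ) h0).trans zero_comp)
  refine ⟨kernel (sh q), f, ?_, ⟨fun j => ?_⟩⟩
  · have hP : (prodCx I).IsKInjective := isKInjective_prodCx I fun n =>
      haveI := (St n).2.2.1
      haveI := (St n).2.2.2
      CochainComplex.isKInjective_of_injective _ (-(n : ℤ) - 1)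
    rw [isKInjective_iff_rightOrthogonal] at hP ⊢
    exact ObjectProperty.ext_of_isTriangulatedClosed₁
      ((HomotopyCategory.subcategoryAcyclic A).rightOrthogonal) (trianglehOfDegreewiseSplit S₂ σ)
      ((HomotopyCategory.distinguished_iff_iso_trianglehOfDegreewiseSplit _).2 ⟨S₂, σ, ⟨Iso.refl _⟩⟩) hP hP
  · rw [quasiIsoAt_iff_isIso_homologyMap]
    have hmono₁ : ∀ j, Mono (homologyMap ι₁ j) := fun j => by
      have : QuasiIsoAt (K.πTruncGE (-((-j).toNat : ℤ))) j := K.quasiIsoAt_πTruncGE _ j (by lia)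
      rw [quasiIsoAt_iff_isIso_homologyMap, ← lift_proj (fun n : ℕ => K.πTruncGE (-(n : ℤ))) (-j).toNat,
        homologyMap_comp] at this
      change IsIso (homologyMap ι₁ j ≫ _) at this
      exact mono_of_mono (homologyMap ι₁ j) (homologyMap (proj (fun n : ℕ => K.truncGE (-(n : ℤ))) (-j).toNat) j)
    have hepi₁ : ∀ j, Epi (homologyMap (sh (truncStep K)) j) := fun j => by
      have := hmono₁ (j + 1)
      have hδ : hS₁.δ j (j + 1) rfl = 0 := by
        rw [← cancel_mono (homologyMap ι₁ (j + 1)), zero_comp]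
        exact hS₁.δ_comp j (j + 1) rfl
      exact (hS₁.homology_exact₃ j (j + 1) rfl).epi_f hδ
    have hepi₂ : ∀ j, Epi (homologyMap (sh q) j) := fun j => by
      have := hepi₁ j
      have e := congrArg (fun φ => homologyMap φ j) hΦ
      simp only [homologyMap_comp] at e
      have : Epi (homologyMap Φ j ≫ homologyMap (sh q) j) := by rw [← e]; infer_instance
      exact epi_of_epi (homologyMap Φ j) _
    have hmono₂ : Mono (homologyMap (kernel.ι (sh q)) j) := by
      have := hepi₂ (j - 1)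
      have hδ : hS₂.δ (j - 1) j (by simp) = 0 := by
        rw [← cancel_epi (homologyMap (sh q) (j - 1)), comp_zero]
        exact hS₂.comp_δ (j - 1) j (by simp)
      exact (hS₂.homology_exact₁ (j - 1) j (by simp)).mono_g hδ
    have := hmono₁ j
    have hf : homologyMap f j ≫ homologyMap (kernel.ι (sh q)) j = homologyMap ι₁ j ≫ homologyMap Φ j := by
      rw [← homologyMap_comp, ← homologyMap_comp, kernel.lift_ι]
    have he := congrArg (fun φ => homologyMap φ j) hΦ
    simp only [homologyMap_comp] at he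
    exact isIso_of_kernels (hS₁.homology_exact₂ j) (homologyMap Φ j) (homologyMap Φ j)
      (homologyMap f j) hf he (by rw [← homologyMap_comp, kernel.condition, homologyMap_zero])

end Groth.DerivedCoh.KInjTower
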