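import Mathlib.Algebra.Homology.HomotopyCategory.KInjective
import Mathlib.Algebra.Homology.QuasiIso
import Mathlib.CategoryTheory.Abelian.GrothendieckAxioms.Basic
import Mathlib.Algebra.Homology.ShortComplex.ExactFunctor
import Mathlib.CategoryTheory.Abelian.FunctorCategory

/-! Countable products of complexes, formed termwise, with exact products. -/

set_option autoImplicit false

universe v u

open CategoryTheory CategoryTheory.Limits HomologicalComplex

namespace Groth.DerivedCoh.KInjTower

variable {A : Type u} [Category.{v} A] [Abelian A]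

/-- A family of complexes as a complex of families. -/
noncomputable def fam (F : ℕ → CochainComplex A ℤ) : CochainComplex (Discrete ℕ ⥤ A) ℤ where
  X i := Discrete.functor fun n => (F n).X i
  d i j := Discrete.natTrans fun n => (F n.as).d i j
  shape i j h := by ext ⟨n⟩; exact (F n).shape i j h
  d_comp_d' i j k _ _ := by ext ⟨n⟩; exact (F n).d_comp_d i j k

/-- A family of maps as a map of complexes of families. -/
noncomputable def famMap {F G : ℕ → CochainComplex A ℤ} (φ : ∀ n, F n ⟶ G n) : fam F ⟶ fam G where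
  f i := Discrete.natTrans fun n => (φ n.as).f i
  comm' i j _ := by ext ⟨n⟩; exact (φ n).comm i j

variable [HasLimitsOfShape (Discrete ℕ) A]

instance : (lim : (Discrete ℕ ⥤ A) ⥤ A).Additive :=
  Functor.additive_of_preserves_binary_products _

/-- The termwise product. -/
noncomputable def prodCx (F : ℕ → CochainComplex A ℤ) : CochainComplex A ℤ :=
  ((lim : (Discrete ℕ ⥤ A) ⥤ A).mapHomologicalComplex _).obj (fam F)

/-- The projections. -/
noncomputable def proj (F : ℕ → CochainComplex A ℤ) (n : ℕ) : prodCx F ⟶ F n where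
  f i := limit.π (Discrete.functor fun m => (F m).X i) ⟨n⟩
  comm' i j _ := (limMap_π ((fam F).d i j) ⟨n⟩).symm

lemma hom_ext {F : ℕ → CochainComplex A ℤ} {i : ℤ} {T : A} {x y : T ⟶ (prodCx F).X i}
    (h : ∀ n, x ≫ (proj F n).f i = y ≫ (proj F n).f i) : x = y :=
  limit.hom_ext fun j => h j.as

/-- A map into a term of a product. -/
noncomputable def pi {F : ℕ → CochainComplex A ℤ} {i : ℤ} {T : A} (f : ∀ n, T ⟶ (F n).X i) :
    T ⟶ (prodCx F).X i :=
  limit.lift ((fam F).X i) (Fan.mk T f)

@[reassoc (attr := simp)]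
lemma pi_proj {F : ℕ → CochainComplex A ℤ} {i : ℤ} {T : A} (f : ∀ n, T ⟶ (F n).X i) (n : ℕ) :
    pi f ≫ (proj F n).f i = f n :=
  limit.lift_π (Fan.mk T f) ⟨n⟩

/-- The map into a product with given components. -/
noncomputable def lift {F : ℕ → CochainComplex A ℤ} {T : CochainComplex A ℤ}
    (φ : ∀ n, T ⟶ F n) : T ⟶ prodCx F where
  f i := pi fun n => (φ n).f i
  comm' i j _ := hom_ext fun n => by
    rw [Category.assoc, Category.assoc, ← (proj F n).comm, pi_proj, pi_proj_assoc]
    exact (φ n).comm i j

@[reassoc (attr := simp)]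
lemma lift_proj {F : ℕ → CochainComplex A ℤ} {T : CochainComplex A ℤ} (φ : ∀ n, T ⟶ F n) (n : ℕ) :
    lift φ ≫ proj F n = φ n := by
  ext i
  exact pi_proj _ _

lemma cx_ext {F : ℕ → CochainComplex A ℤ} {T : CochainComplex A ℤ} {x y : T ⟶ prodCx F}
    (h : ∀ n, x ≫ proj F n = y ≫ proj F n) : x = y := by
  ext i
  exact hom_ext fun n => by rw [← comp_f, h n, comp_f]

/-- The product of maps. -/
noncomputable def map {F G : ℕ → CochainComplex A ℤ} (φ : ∀ n, F n ⟶ G n) : prodCx F ⟶ prodCx G :=
  ((lim : (Discrete ℕ ⥤ A) ⥤ A).mapHomologicalComplex _).map (famMap φ)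

@[reassoc (attr := simp)]
lemma map_proj {F G : ℕ → CochainComplex A ℤ} (φ : ∀ n, F n ⟶ G n) (n : ℕ) :
    map φ ≫ proj G n = proj F n ≫ φ n := by
  ext i
  exact limMap_π ((famMap φ).f i) ⟨n⟩

/-- A product of K-injective complexes is K-injective. -/
lemma isKInjective_prodCx (F : ℕ → CochainComplex A ℤ) (h : ∀ n, (F n).IsKInjective) :
    (prodCx F).IsKInjective where
  nonempty_homotopy_zero {K} f hK := by
    let H := fun n => (h n).nonempty_homotopy_zero (f ≫ proj F n) hK |>.some
    let hom : ∀ i j, K.X i ⟶ (prodCx F).X j := fun i j => pi fun n => (H n).hom i j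
    have hfac : ∀ i j n, hom i j ≫ (proj F n).f j = (H n).hom i j := fun i j n => pi_proj _ _
    refine ⟨{ hom := hom, zero := fun i j hij => hom_ext fun n => ?_,
              comm := fun i => hom_ext fun n => ?_ }⟩
    · rw [zero_comp, hfac]
      exact (H n).zero i j hij
    · have hr : (ComplexShape.up ℤ).Rel i (i + 1) := by simp
      have hl : (ComplexShape.up ℤ).Rel (i - 1) i := by simp
      have := (H n).comm i
      rw [dNext_eq _ hr, prevD_eq _ hl] at this ⊢
      simp only [comp_f, zero_f, add_zero] at this ⊢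
      simp only [Preadditive.add_comp, Category.assoc]
      refine this.trans (congrArg₂ (· + ·) ?_ ?_)
      · rw [hfac]
      · rw [← (proj F n).comm (i - 1) i, ← Category.assoc, hfac]

variable [HasExactLimitsOfShape (Discrete ℕ) A]

/-- A product of quasi-isomorphisms is a quasi-isomorphism. -/
lemma quasiIso_map {F G : ℕ → CochainComplex A ℤ} (φ : ∀ n, F n ⟶ G n) (h : ∀ n, QuasiIso (φ n)) :
    QuasiIso (map φ) := by
  haveI : QuasiIso (famMap φ) := ⟨fun i => by
    rw [quasiIsoAt_iff_isIso_homologyMap, NatTrans.isIso_iff_isIso_app]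
    intro n
    let α := (shortComplexFunctor (Discrete ℕ ⥤ A) (ComplexShape.up ℤ) i).map (famMap φ)
    have h1 : IsIso (ShortComplex.homologyMap (((evaluation (Discrete ℕ) A).obj n).mapShortComplex.map α)) := by
      have := (h n.as).quasiIsoAt i
      rw [quasiIsoAt_iff_isIso_homologyMap] at this
      exact this
    exact (NatIso.isIso_map_iff (ShortComplex.homologyFunctorIso ((evaluation (Discrete ℕ) A).obj n)) α).1 h1⟩
  haveI : PreservesFiniteColimits (lim : (Discrete ℕ ⥤ A) ⥤ A) :=
    HasExactLimitsOfShape.preservesFiniteColimits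
  exact inferInstanceAs (QuasiIso (((lim : (Discrete ℕ ⥤ A) ⥤ A).mapHomologicalComplex _).map (famMap φ)))

end Groth.DerivedCoh.KInjTower
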